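import Mathlib
import Groth.Agent.GrpdLib.InvOpen
import Groth.Agent.FFDescLib.Closure

/-!
# Saturations of quasi-compact opens in flat groupoids
-/

set_option autoImplicit false
set_option linter.all false
universe u

open CategoryTheory CategoryTheory.Limits AlgebraicGeometry TopologicalSpace

noncomputable section

namespace Groth.Agent.GrpdSat

variable {S : Scheme.{u}} (G : Grpd.GroupoidScheme S)

theorem mem_sat {W : Set G.U} {x : G.U} : x ∈ ⇑G.t '' (⇑G.s ⁻¹' W) ↔ ∃ w ∈ W, GrpdLib.Rel G w x :=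
  ⟨fun ⟨r, hr, hr'⟩ => ⟨_, hr, r, rfl, hr'⟩, fun ⟨_, hw, r, hr, hr'⟩ => ⟨r, show G.s r ∈ W by rwa [hr], hr'⟩⟩

variable [QuasiCompact G.s] [Flat G.t]

theorem isCompact_sat (W : G.U.Opens) (hW : IsCompact (W : Set G.U)) :
    IsCompact (⇑G.t '' (⇑G.s ⁻¹' (W : Set G.U))) :=
  (G.s.isCompact_preimage hW).image G.t.continuous

theorem stableUnderGeneralization_sat (W : G.U.Opens) :
    StableUnderGeneralization (⇑G.t '' (⇑G.s ⁻¹' (W : Set G.U))) := by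
  rintro z y hyz ⟨r, hr, rfl⟩
  obtain ⟨r', hr', rfl⟩ := (Flat.generalizingMap G.t) hyz
  exact ⟨r', (hr'.map G.s.continuous).mem_open W.2 hr, rfl⟩

theorem exists_qc_open_avoiding (W : G.U.Opens) (hW : IsCompact (W : Set G.U)) (x : G.U)
    (hx : x ∉ ⇑G.t '' (⇑G.s ⁻¹' (W : Set G.U))) :
    ∃ V : G.U.Opens, IsCompact (V : Set G.U) ∧ ⇑G.t '' (⇑G.s ⁻¹' (W : Set G.U)) ⊆ V ∧ x ∉ V := by
  let Z := ⇑G.t '' (⇑G.s ⁻¹' (W : Set G.U))
  have key : ∀ z : Z, ∃ V : G.U.Opens, IsAffineOpen V ∧ (z : G.U) ∈ V ∧ x ∉ V := fun z => by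
    have hns : ¬ x ⤳ (z : G.U) := fun h => hx (stableUnderGeneralization_sat G W h z.2)
    obtain ⟨O, hO, hzO, hxO⟩ := not_specializes_iff_exists_open.1 hns
    obtain ⟨V, hV, hzV, hVO⟩ := exists_isAffineOpen_mem_and_subset (U := (⟨O, hO⟩ : G.U.Opens)) hzO
    exact ⟨V, hV, hzV, fun h => hxO (hVO h)⟩
  choose V hVa hzV hxV using key
  obtain ⟨T, hT⟩ := (isCompact_sat G W hW).elim_finite_subcover (fun z => (V z : Set G.U)) (fun z => (V z).2)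
    fun z hz => Set.mem_iUnion.2 ⟨⟨z, hz⟩, hzV _⟩
  refine ⟨⟨⋃ z ∈ T, (V z : Set G.U), isOpen_biUnion fun z _ => (V z).2⟩,
    T.finite_toSet.isCompact_biUnion fun z _ => (hVa z).isCompact, hT, fun h => ?_⟩
  obtain ⟨z, -, hz⟩ := Set.mem_iUnion₂.1 h
  exact hxV z hz

theorem exists_qc_open (W : G.U.Opens) (hW : IsCompact (W : Set G.U)) :
    ∃ V : G.U.Opens, IsCompact (V : Set G.U) ∧ ⇑G.t '' (⇑G.s ⁻¹' (W : Set G.U)) ⊆ V := by
  have key : ∀ z : G.U, ∃ V : G.U.Opens, IsAffineOpen V ∧ z ∈ V := fun z => by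
    obtain ⟨V, hV, hzV, -⟩ := exists_isAffineOpen_mem_and_subset (X := G.U) (x := z) (U := ⊤) trivial
    exact ⟨V, hV, hzV⟩
  choose V hVa hzV using key
  obtain ⟨T, hT⟩ := (isCompact_sat G W hW).elim_finite_subcover (fun z => (V z : Set G.U)) (fun z => (V z).2)
    fun z _ => Set.mem_iUnion.2 ⟨z, hzV z⟩
  exact ⟨⟨⋃ z ∈ T, (V z : Set G.U), isOpen_biUnion fun z _ => (V z).2⟩,
    T.finite_toSet.isCompact_biUnion fun z _ => (hVa z).isCompact, hT⟩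

/-- An invariant open between a quasi-compact open and a quasi-compact open. -/
theorem exists_invariant_between [Flat G.s] [QuasiCompact G.t] (W : G.U.Opens) (hW : IsCompact (W : Set G.U)) :
    ∃ V W' : G.U.Opens, G.s ⁻¹ᵁ V = G.t ⁻¹ᵁ V ∧ IsCompact (W' : Set G.U) ∧ W ≤ V ∧ V ≤ W' := by
  obtain ⟨W', hW', hsub⟩ := exists_qc_open G W hW
  let F : Set G.U := (W' : Set G.U)ᶜ
  let E := ⇑G.t '' (⇑G.s ⁻¹' F)
  have hF : IsClosed (⇑G.s ⁻¹' F) := W'.2.isClosed_compl.preimage G.s.continuous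
  refine ⟨⟨(closure E)ᶜ, isClosed_closure.isOpen_compl⟩, W', ?_, hW', ?_, ?_⟩
  · rw [GrpdLib.opens_preimage_eq_iff]
    intro a b hab ha hb
    obtain ⟨r, hrs, hrt⟩ := GrpdLib.Rel.symm G hab
    obtain ⟨w, hw, hwb⟩ := FFDescLib.exists_specializes_of_mem_closure_image G.t hF hb
    obtain ⟨r', hr', hr's⟩ := (Flat.generalizingMap G.s) (hrs.symm ▸ hwb : G.t w ⤳ G.s r)
    refine ha ?_
    rw [← hrt]
    refine (hr'.map G.t.continuous).mem_closed isClosed_closure (subset_closure ((mem_sat G).2 ⟨_, hw, ?_⟩))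
    exact GrpdLib.Rel.trans G ⟨w, rfl, hr's.symm⟩ ⟨r', rfl, rfl⟩
  · intro x hxW hxC
    obtain ⟨_, hxW', r, hr, rfl⟩ := mem_closure_iff.1 hxC _ W.2 hxW
    exact hr (hsub ((mem_sat G).2 ⟨_, hxW', GrpdLib.Rel.symm G ⟨r, rfl, rfl⟩⟩))
  · intro x hx
    by_contra hxW
    exact hx (subset_closure ((mem_sat G).2 ⟨x, hxW, GrpdLib.Rel.refl G x⟩))

end Groth.Agent.GrpdSat
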